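import Groth.Agent.AlgSp2.Induction.Principle
import Groth.Agent.AlgSp2.InfSmallExt
import Groth.Agent.HenselPoint.SigmaRep
import Groth.Prelude.Def_AlgSp4

/-!
# Enlarging an open subspace by an affine distinguished square
-/

set_option autoImplicit false
set_option backward.isDefEq.respectTransparency.types false
set_option linter.style.haveILetI false
set_option linter.unusedSectionVars false
universe u

open CategoryTheory CategoryTheory.Limits AlgebraicGeometry Topology TopologicalSpace Opposite AlgSp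
open Groth.AlgSpBasic Groth.AlgSp2.Induction

namespace Groth.AlgSp2.Enlarge

variable {S : Scheme.{u}} {X : Sp S}

/-- Opens of a quasi-compact locally Noetherian space are quasi-compact. -/
theorem isCompact_of_isOpen (hX : IsAlgSpace X) (hqc : IsQuasiCompactSp X) (hN : IsLocNoethSp X)
    {D : Set (AlgSp.Points X)} (hD : IsOpen D) : IsCompact D := by
  obtain ⟨U, a, hU, ha, hs⟩ := exists_affine_chart hX hqc
  have := isLocallyNoetherian_of_etale hX hN ha
  have : IsNoetherian U.left := {}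
  have e : D = AlgSp.Points.ofPt a '' (AlgSp.Points.ofPt a ⁻¹' D) :=
    (Set.image_preimage_eq D fun x => surjective_ofPt_of_repWith hs x).symm
  rw [e]
  exact (NoetherianSpace.isCompact _).image (AlgSp.Points.continuous_ofPt a)

/-- A chart unique off an open leaving it can be found. -/
theorem exists_uniqueOver [QuasiSeparatedSpace ↥S] (hX : IsAlgSpace X) (hqc : IsQuasiCompactSp X)
    (hqs : IsQuasiSeparatedSp X) {D₀ : Set (AlgSp.Points X)} (hc : IsCompact D₀) (ho : IsOpen D₀)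
    (hne : D₀ ≠ Set.univ) :
    ∃ (V : Over S) (g : (yon S).obj V ⟶ X), IsAffine V.left ∧ RepWith @Etale g ∧ UniqueOver g D₀ᶜ ∧
      ¬ Set.range (AlgSp.Points.ofPt g) ⊆ D₀ := by
  refine (induction_compactOpen hX hqc hqs (fun D => D = D₀ ∨ ∃ (V : Over S)
    (g : (yon S).obj V ⟶ X), IsAffine V.left ∧ RepWith @Etale g ∧ UniqueOver g D₀ᶜ ∧
      ¬ Set.range (AlgSp.Points.ofPt g) ⊆ D₀) D₀ hc ho (Or.inl rfl)
    fun D V g hV hg _ _ _ hu hQ => ?_).resolve_left hne.symm
  rcases hQ with rfl | h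
  · by_cases hsub : Set.range (AlgSp.Points.ofPt g) ⊆ D
    · exact Or.inl (Set.union_eq_left.2 hsub)
    · exact Or.inr ⟨V, g, hV, hg, hu, hsub⟩
  · exact Or.inr h

/-- A proper enlargement by an affine elementary distinguished square with surjective overlap. -/
theorem exists_enlarge [QuasiSeparatedSpace ↥S] {X U : AlgSp.Space S}
    (hqc : IsQuasiCompactSp X.obj) (hqs : IsQuasiSeparatedSp X.obj) (hN : IsLocNoethSp X.obj)
    (j : U ⟶ X) (hj : RepWith @IsOpenImmersion j.hom)
    (hne : Set.range (AlgSp.Points.map j.hom) ≠ Set.univ) :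
    ∃ (V : Over S) (_ : IsAffine V.left) (W : AlgSp.Space S) (jW : W ⟶ X) (jU : U ⟶ W)
      (φ : (AlgSp.ofScheme S).obj V ⟶ W)
      (P : AlgSp.Space S) (p : P ⟶ U) (q : P ⟶ (AlgSp.ofScheme S).obj V),
      RepWith @Etale (φ ≫ jW).hom ∧ RepWith @IsOpenImmersion jW.hom ∧ jU ≫ jW = j ∧
        Set.range (AlgSp.Points.map jW.hom) =
          Set.range (AlgSp.Points.map j.hom) ∪ Set.range (AlgSp.Points.map (φ ≫ jW).hom) ∧
        Set.range (AlgSp.Points.map jW.hom) ≠ Set.range (AlgSp.Points.map j.hom) ∧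
        IsElemDistSq jU.hom φ.hom ∧ IsPullback p.hom q.hom jU.hom φ.hom ∧ IsDominantMor p.hom := by
  let D₀ : Set (AlgSp.Points X.obj) := Set.range (AlgSp.Points.map j.hom)
  have ho : IsOpen D₀ := (isOpenMap_map_of_repWith
    (fun _ _ φ (_ : IsOpenImmersion φ) => φ.isOpenMap) hj).isOpen_range
  have hc : IsCompact D₀ := isCompact_of_isOpen X.property hqc hN ho
  obtain ⟨V₁, g₁, hV₁, hg₁, hu₁, hout⟩ := exists_uniqueOver X.property hqc hqs hc ho hne
  obtain ⟨U₀, pU, hU₀, hpU, hpUs⟩ :=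
    exists_affine_chart U.property (isQuasiCompactSp_of_range hj hc)
  let K : ULift.{u} Bool → Over S := fun k => match k with
    | ⟨true⟩ => U₀
    | ⟨false⟩ => V₁
  let xs : ∀ k, (yon S).obj (K k) ⟶ X.obj := fun k => match k with
    | ⟨true⟩ => pU ≫ j.hom
    | ⟨false⟩ => g₁
  obtain ⟨g, hg, -⟩ := Groth.AlgSp2.exists_glue K xs
  let V := sigmaObj K
  have : ∀ k, IsAffine (K k).left := by rintro ⟨_ | _⟩ <;> assumption
  have hVa : IsAffine V.left := inferInstanceAs (IsAffine (∐ fun k => (K k).left))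
  have hge : RepWith @Etale g := Groth.HenselPoint.repWith_sigma g fun k => by
    rw [hg]
    rcases k with ⟨_ | _⟩
    · exact hg₁
    · exact repWith_comp hpU (repWith_mono
        (fun _ _ h (_ : IsOpenImmersion h) => (inferInstance : Etale h)) hj)
  have hincl : IsOpenImmersion (sigmaIncl K ⟨false⟩).left :=
    inferInstanceAs (IsOpenImmersion (Limits.Sigma.ι (fun i => (K i).left) ⟨false⟩))
  have hu : UniqueOver g D₀ᶜ := fun T v v' e ht => by
    have hr : ∀ w : T ⟶ V, (∀ t, AlgSp.Points.ofPt ((yon S).map w ≫ g) t ∈ D₀ᶜ) →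
        ∃ w₁ : T ⟶ V₁, w₁ ≫ sigmaIncl K ⟨false⟩ = w := fun w hw => by
      have hsub : Set.range w.left ⊆ Set.range (sigmaIncl K ⟨false⟩).left := by
        rintro _ ⟨t, rfl⟩
        obtain ⟨⟨_ | _⟩, y, hy⟩ := Groth.HenselPoint.exists_sigmaIncl_eq (V := K) (w.left t)
        · exact ⟨y, hy⟩
        · refine absurd ⟨AlgSp.Points.ofPt pU y, ?_⟩ (hw t)
          rw [AlgSp.Points.map_ofPt, show pU ≫ j.hom = (yon S).map (sigmaIncl K ⟨true⟩) ≫ g from (hg ⟨true⟩).symm,
            ofPt_comp_yon, ofPt_comp_yon]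
          exact congrArg _ hy
      exact ⟨Over.homMk (IsOpenImmersion.lift _ w.left hsub) (by
        rw [← Over.w (sigmaIncl K ⟨false⟩), IsOpenImmersion.lift_fac_assoc, Over.w w]),
        Over.OverMorphism.ext (IsOpenImmersion.lift_fac _ _ _)⟩
    obtain ⟨w, rfl⟩ := hr v ht
    obtain ⟨w', rfl⟩ := hr v' (e ▸ ht)
    rw [Functor.map_comp_assoc, Functor.map_comp_assoc, hg] at e
    rw [hu₁ w w' e fun t => by
      have := ht t
      rwa [Functor.map_comp_assoc, hg] at this]
  -- the enlarged open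
  let D : Set (AlgSp.Points X.obj) := D₀ ∪ Set.range (AlgSp.Points.ofPt g)
  have hDo : IsOpen D := ho.union (isOpen_range_ofPt hge)
  have hjW := repWith_openSubι (X := X.obj) hDo
  have : Mono (openSubι X.obj D) := mono_openSubι hDo
  let W : AlgSp.Space S := ⟨openSub X.obj D, isAlgSpace_openSub X.property hDo⟩
  let jW : W ⟶ X := ObjectProperty.homMk (openSubι X.obj D)
  obtain ⟨kU, hkU⟩ := exists_openSub_factor hDo j.hom Set.subset_union_left
  obtain ⟨kV, hkV⟩ := (openSub_exists_lift_iff X.obj D g).2 fun t => Or.inr ⟨t, rfl⟩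
  let jU : U ⟶ W := ObjectProperty.homMk kU
  let φ : (ofScheme S).obj V ⟶ W := ObjectProperty.homMk kV
  have hkUo : RepWith @IsOpenImmersion kU :=
    repWith_of_isPullback (isPullback_id_of_mono kU (openSubι X.obj D)) (hkU.symm ▸ hj)
  have hkVe : RepWith @Etale kV :=
    repWith_of_isPullback (isPullback_id_of_mono kV (openSubι X.obj D)) (hkV.symm ▸ hge)
  have hmem : ∀ y, y ∈ Set.range (AlgSp.Points.map kU) ↔
      AlgSp.Points.map (openSubι X.obj D) y ∈ D₀ := fun y => by
    constructor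
    · rintro ⟨z, rfl⟩
      exact ⟨z, by rw [← AlgSp.Points.map_comp, hkU]⟩
    · rintro ⟨z, hz⟩
      refine ⟨z, Groth.AlgSp2.map_injective_of_mono (openSubι X.obj D) ?_⟩
      rw [← AlgSp.Points.map_comp, hkU, hz]
  have hsq : IsElemDistSq kU kV := by
    refine isElemDistSq_of_uniqueOver W.property hkUo hkVe (fun T v v' e ht => hu v v' ?_ fun t h => ?_)
      fun y hy => ?_
    · rw [← hkV, reassoc_of% e]
    · refine ht t ((hmem _).2 ?_)
      rwa [AlgSp.Points.map_ofPt, Category.assoc, hkV]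
    · obtain h | ⟨v, hv⟩ := range_map_openSubι.le (Set.mem_range_self y)
      · exact absurd ((hmem y).2 h) hy
      · refine ⟨v, Groth.AlgSp2.map_injective_of_mono (openSubι X.obj D) ?_⟩
        rw [AlgSp.Points.map_ofPt, hkV, hv]
  let P : AlgSp.Space S := ⟨pullback kU kV,
    isAlgSpace_pullback ⟨_, U.property⟩ ⟨_, IsAlgSpace.yon_obj V⟩ ⟨_, W.property⟩ kU kV⟩
  let p : P ⟶ U := ObjectProperty.homMk (pullback.fst kU kV)
  let q : P ⟶ (ofScheme S).obj V := ObjectProperty.homMk (pullback.snd kU kV)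
  refine ⟨V, hVa, W, jW, jU, φ, P, p, q, ?_, hjW, InducedCategory.hom_ext hkU, ?_, ?_, hsq,
    IsPullback.of_hasPullback kU kV, ?_⟩
  · show RepWith @Etale (kV ≫ openSubι X.obj D)
    rw [hkV]
    exact hge
  · show Set.range (AlgSp.Points.map (openSubι X.obj D)) =
      D₀ ∪ Set.range (AlgSp.Points.map (kV ≫ openSubι X.obj D))
    rw [range_map_openSubι, hkV]
    refine congrArg (D₀ ∪ ·) (Set.ext fun x => ⟨?_, ?_⟩)
    · rintro ⟨v, rfl⟩
      exact ⟨AlgSp.Points.ofScheme V v, (ofPt_eq_map _ _).symm⟩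
    · rintro ⟨y, rfl⟩
      obtain ⟨v, rfl⟩ := (AlgSp.Points.schemeEquiv V).surjective y
      exact ⟨v, ofPt_eq_map _ _⟩
  · show Set.range (AlgSp.Points.map (openSubι X.obj D)) ≠ D₀
    rw [range_map_openSubι]
    refine fun h => hout fun x ⟨v, hv⟩ => h.le (Or.inr ⟨(sigmaIncl K ⟨false⟩).left v, ?_⟩)
    rw [← ofPt_comp_yon, hg]
    exact hv
  · show DenseRange (AlgSp.Points.map (pullback.fst kU kV))
    refine Function.Surjective.denseRange fun y => ?_
    obtain ⟨x, rfl⟩ := surjective_ofPt_of_repWith hpUs y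
    have h : AlgSp.Points.map kU (AlgSp.Points.ofPt pU x) = AlgSp.Points.map kV
        (AlgSp.Points.ofScheme V ((sigmaIncl K ⟨true⟩).left x)) :=
      Groth.AlgSp2.map_injective_of_mono (openSubι X.obj D) (by
        rw [← AlgSp.Points.map_comp, hkU, ← AlgSp.Points.map_comp, hkV, AlgSp.Points.map_ofPt,
          ← ofPt_eq_map, ← ofPt_comp_yon, hg])
    obtain ⟨z, hz, -⟩ := Groth.AlgSpBasic.exists_point_of_isPullback
      (IsPullback.of_hasPullback kU kV) _ _ h
    exact ⟨z, hz⟩

end Groth.AlgSp2.Enlarge
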